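import Cfsg.Agent.H700.DM.Defs
import Cfsg.Agent.H902.AltLie
import Cfsg.Agent.H902.Enum

/-!
# S4907, DM12: alternating groups against classical groups, with central factors (helper358)
-/

set_option autoImplicit false

namespace Cfsg.Agent.H358.DM

open Cfsg.Agent.H902.Art Cfsg.Agent.H700.DM

/-- `dd * M < (M_p)³` -/
theorem lt_cube' {X : Sh} {p f M : ℕ} (h : Real X p f M) : dd X (p ^ f) * M < (P p M) ^ 3 := by
  have hq := h.q_ge
  rw [h.eq]
  by_cases hX : X = .L 2
  · subst hX
    rw [h.P_self]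
    show (p ^ f) ^ 1 * (∏ i ∈ Finset.range 1, ((p ^ f) ^ (i + 2) - 1)) < ((p ^ f) ^ 1) ^ 3
    rw [Finset.prod_range_one, pow_one, zero_add]
    have h1 : 1 ≤ (p ^ f) ^ 2 := Nat.one_le_pow _ _ (by omega)
    calc p ^ f * ((p ^ f) ^ 2 - 1) < p ^ f * (p ^ f) ^ 2 := Nat.mul_lt_mul_of_pos_left (by omega) (by omega)
      _ = (p ^ f) ^ 3 := by ring
  · have h1 : ((p ^ f) ^ NN X * num X (p ^ f)) ^ 3 ≤ (P p M) ^ 8 := by
      rw [h.P_self]
      calc ((p ^ f) ^ NN X * num X (p ^ f)) ^ 3 = ((p ^ f) ^ NN X) ^ 3 * (num X (p ^ f)) ^ 3 := mul_pow _ _ _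
        _ ≤ ((p ^ f) ^ NN X) ^ 3 * ((p ^ f) ^ NN X) ^ 5 := Nat.mul_le_mul_left _ (h.num_cube hX)
        _ = ((p ^ f) ^ NN X) ^ 8 := by rw [← pow_add]
    have h2 : 2 ≤ P p M := by
      rw [h.P_self]
      exact hq.trans (Nat.le_self_pow (by have := NN_pos h; omega) _)
    by_contra hcon
    push Not at hcon
    have h3 : (P p M) ^ 9 ≤ (P p M) ^ 8 := by
      calc (P p M) ^ 9 = ((P p M) ^ 3) ^ 3 := by ring
        _ ≤ ((p ^ f) ^ NN X * num X (p ^ f)) ^ 3 := Nat.pow_le_pow_left hcon 3
        _ ≤ _ := h1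
    have h4 : (P p M) ^ 8 < (P p M) ^ 9 := Nat.pow_lt_pow_right (by omega) (by norm_num)
    omega

/-- the classical shapes, as a test -/
def clB : Sh → Bool
  | .L _ => true
  | .C _ => true
  | .U _ => true
  | .D _ => true
  | .DD _ => true
  | _ => false

theorem clB_of {X : Sh} (h : IsCl X) : clB X = true := by
  cases X <;> first | rfl | exact h.elim

/-- the finite check -/
theorem fin_alt' : ∀ p ∈ [2, 3, 5, 7, 11, 13], ∀ v ∈ List.range' 1 13, ∀ n ∈ List.range' 5 10,
    n.factorial / 2 % p ^ v = 0 → n.factorial / 2 % p ^ (v + 1) ≠ 0 → ∀ b ∈ ents p v, clB b.1 = true →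
    ∀ z ∈ [1, 2, 3, 6], ∀ z' ∈ List.range (dd b.1 (p ^ b.2) + 1), n.factorial / 2 * z = val p b * z' →
    n.factorial / 2 = val p b := by
  decide +kernel

theorem alt_eq {X : Sh} {p f M n N z z' : ℕ} (hX : IsCl X) (h : Real X p f M) (hn : 5 ≤ n)
    (hN : 2 * N = n.factorial) (hp : p ∣ N) (hP : N.factorization p = M.factorization p) (hz : z ∣ 6)
    (hz' : z' ∣ dd X (p ^ f)) (hM : N * z = M * z') : N = M := by
  have hN2 : N = n.factorial / 2 := by rw [← hN, Nat.mul_div_cancel_left _ (by norm_num)]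
  have hN0 : N ≠ 0 := by
    have := Nat.factorial_pos n
    omega
  have hM0 := h.M_ne
  have hz0 : z ≠ 0 := fun h0 => by rw [h0] at hz; norm_num at hz
  have hdd := h.dd_ne
  have hz'0 : z' ≠ 0 := fun h0 => hdd (by rw [h0] at hz'; exact Nat.eq_zero_of_zero_dvd hz')
  have hz'le : z' ≤ dd X (p ^ f) := Nat.le_of_dvd (Nat.pos_of_ne_zero hdd) hz'
  have hcube : N < (P p N) ^ 3 := by
    have h1 := lt_cube' h
    have h2 : P p N = P p M := by unfold P; rw [hP]
    rw [h2]
    calc N ≤ N * z := Nat.le_mul_of_pos_right _ (Nat.pos_of_ne_zero hz0)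
      _ = M * z' := hM
      _ ≤ M * dd X (p ^ f) := Nat.mul_le_mul_left _ hz'le
      _ = dd X (p ^ f) * M := mul_comm _ _
      _ < _ := h1
  have hexp := P_prime_exp h
  have hv := fact_val h.hp (show 1 ≤ n by omega)
  have hfac : n.factorial.factorization p = (Nat.factorization 2) p + N.factorization p := by
    rw [← hN, Nat.factorization_mul (by norm_num) hN0, Finsupp.add_apply]
  have hNN := NN_pos h
  have hv1 : 1 ≤ N.factorization p := by
    rw [hP, ← hexp]; exact Nat.mul_pos h.hf hNN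
  have hpM : P p N = p ^ N.factorization p := rfl
  have hn14 : n ≤ 14 := by
    by_contra hcon
    rcases eq_or_ne p 2 with rfl | hp2
    · obtain ⟨k, rfl⟩ := Nat.exists_eq_add_of_le' (show 15 ≤ n by omega)
      have h1 := grow_two k
      rw [← hN2] at h1
      have h2 : (Nat.factorization 2) 2 = 1 := Nat.Prime.factorization_self Nat.prime_two
      have h3 : N.factorization 2 ≤ k + 13 := by omega
      have h4 : (P 2 N) ^ 3 ≤ 8 ^ (k + 13) := by
        rw [hpM, ← pow_mul, mul_comm, pow_mul]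
        exact Nat.pow_le_pow_right (by norm_num) h3
      omega
    · obtain ⟨k, rfl⟩ := Nat.exists_eq_add_of_le' (show 11 ≤ n by omega)
      have h1 := grow_odd k
      rw [← hN2] at h1
      have hp3 : 3 ≤ p := by have := h.hp.two_le; omega
      have h3 : (p - 1) * N.factorization p ≤ k + 10 := by
        have : N.factorization p ≤ (k + 11).factorial.factorization p := by rw [hfac]; omega
        have h4 := Nat.mul_le_mul_left (p - 1) this
        omega
      have h4 : p ^ 2 ≤ 3 ^ (p - 1) := by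
        obtain ⟨j, rfl⟩ := Nat.exists_eq_add_of_le' hp3
        have : ∀ j : ℕ, (j + 3) ^ 2 ≤ 3 ^ (j + 2) := by
          intro j
          induction j with
          | zero => norm_num
          | succ j ih =>
            have e1 : (j + 1 + 3) ^ 2 + (2 * j ^ 2 + 10 * j + 11) = 3 * (j + 3) ^ 2 := by ring
            have e2 : 3 ^ (j + 1 + 2) = 3 * 3 ^ (j + 2) := by ring
            omega
        exact this j
      have h5 : (P p N) ^ 2 ≤ 3 ^ (k + 10) := by
        rw [hpM]
        calc (p ^ N.factorization p) ^ 2 = (p ^ 2) ^ N.factorization p := by rw [← pow_mul, ← pow_mul, mul_comm]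
          _ ≤ (3 ^ (p - 1)) ^ N.factorization p := Nat.pow_le_pow_left h4 _
          _ = 3 ^ ((p - 1) * N.factorization p) := by rw [← pow_mul]
          _ ≤ 3 ^ (k + 10) := Nat.pow_le_pow_right (by norm_num) h3
      have h6 : N ^ 2 < ((P p N) ^ 3) ^ 2 := Nat.pow_lt_pow_left hcube (by norm_num)
      have h7 : ((P p N) ^ 3) ^ 2 ≤ 27 ^ (k + 10) := by
        calc ((P p N) ^ 3) ^ 2 = ((P p N) ^ 2) ^ 3 := by rw [← pow_mul, ← pow_mul, mul_comm]
          _ ≤ (3 ^ (k + 10)) ^ 3 := Nat.pow_le_pow_left h5 3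
          _ = (3 ^ 3) ^ (k + 10) := by rw [← pow_mul, ← pow_mul, mul_comm]
          _ = 27 ^ (k + 10) := by norm_num
      omega
  have hpn : p ≤ n := by
    have h2 : p ∣ n.factorial := by rw [← hN]; exact hp.mul_left 2
    exact (h.hp.dvd_factorial).1 h2
  have hpl : p ∈ [2, 3, 5, 7, 11, 13] := by
    have h14 : p ≤ 14 := by omega
    have := h.hp
    interval_cases p <;> first | decide | (exfalso; revert this; decide)
  have hvn : N.factorization p ≤ 13 := by
    have h1 : N.factorization p ≤ n.factorial.factorization p := by rw [hfac]; omega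
    have h2 : 1 ≤ p - 1 := by have := h.hp.two_le; omega
    have h3 := Nat.mul_le_mul h2 h1
    omega
  have hd1 : n.factorial / 2 % p ^ N.factorization p = 0 := by
    rw [← hN2]
    exact Nat.mod_eq_zero_of_dvd (Nat.ordProj_dvd N p)
  have hd2 : n.factorial / 2 % p ^ (N.factorization p + 1) ≠ 0 := by
    rw [← hN2]
    intro h0
    exact Nat.pow_succ_factorization_not_dvd hN0 h.hp (Nat.dvd_of_mod_eq_zero h0)
  have h5 := fin_alt' p hpl (N.factorization p) (by rw [List.mem_range'_1]; omega) n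
    (by rw [List.mem_range'_1]; omega) hd1 hd2 _ (mem_ents h (by rw [hP]; exact hexp)) (clB_of hX) z
    (by
      have h6 : z ≤ 6 := Nat.le_of_dvd (by norm_num) hz
      interval_cases z <;> first | decide | (exfalso; revert hz; decide)) z'
    (by rw [List.mem_range]; exact Nat.lt_succ_of_le hz'le) (by rw [val_eq h, ← hN2]; exact hM)
  rw [hN2, h5, val_eq h]

end Cfsg.Agent.H358.DM
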