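import Cfsg.Agent.H358.DM.Alt
import Cfsg.Agent.H902.Names

/-!
# S4907, DM11: sporadic groups against classical groups (helper358)
-/

set_option autoImplicit false

namespace Cfsg.Agent.H358.DM

open Cfsg.Agent.H902.Art Cfsg.Agent.H700.DM

/-- the primes up to 71 -/
def prs : List ℕ := [2, 3, 5, 7, 11, 13, 17, 19, 23, 29, 31, 37, 41, 43, 47, 53, 59, 61, 67, 71]

/-- the finite check -/
theorem fin_spor : ∀ x ∈ OrdDiv.spor, ∀ p ∈ prs, ∀ v ∈ List.range' 1 46, x.2 % p ^ v = 0 → x.2 % p ^ (v + 1) ≠ 0 →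
    ∀ b ∈ ents p v, clB b.1 = true → ((p ^ b.2) ^ NN b.1 * num b.1 (p ^ b.2)) % x.2 ≠ 0 := by
  decide +kernel

theorem fin_spor2 : ∀ x ∈ OrdDiv.spor, (Nat.factorial 71) ^ 46 % x.2 = 0 := by
  decide +kernel

theorem fin_spor3 : ∀ x ∈ OrdDiv.spor, ∀ p ∈ prs, x.2 % p ^ 47 ≠ 0 := by
  decide +kernel

theorem spor_ne {X : Sh} {p f M : ℕ} (hX : IsCl X) (h : Real X p f M) {x : OrdDiv.Grp × ℕ} (hx : x ∈ OrdDiv.spor)
    (hp : p ∣ x.2) (hP : x.2.factorization p = M.factorization p) : ¬ x.2 ∣ M * dd X (p ^ f) := by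
  intro hd
  have hx0 : x.2 ≠ 0 := by
    have : ∀ x ∈ OrdDiv.spor, x.2 ≠ 0 := by decide
    exact this x hx
  have hp71 : p ≤ 71 := by
    have h1 : p ∣ (Nat.factorial 71) ^ 46 := hp.trans (Nat.dvd_of_mod_eq_zero (fin_spor2 x hx))
    exact (h.hp.dvd_factorial).1 (h.hp.dvd_of_dvd_pow h1)
  have hpl : p ∈ prs := by
    have := h.hp
    interval_cases p <;> first | decide | (exfalso; revert this; norm_num)
  have hv1 : 1 ≤ x.2.factorization p := (h.hp.factorization_pos_of_dvd hx0 hp)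
  have hv2 : x.2.factorization p < 47 := by
    by_contra hcon
    push Not at hcon
    exact fin_spor3 x hx p hpl (Nat.mod_eq_zero_of_dvd ((pow_dvd_pow p hcon).trans (Nat.ordProj_dvd x.2 p)))
  have hd1 : x.2 % p ^ x.2.factorization p = 0 := Nat.mod_eq_zero_of_dvd (Nat.ordProj_dvd x.2 p)
  have hd2 : x.2 % p ^ (x.2.factorization p + 1) ≠ 0 := by
    intro h0
    exact Nat.pow_succ_factorization_not_dvd hx0 h.hp (Nat.dvd_of_mod_eq_zero h0)
  have hexp := P_prime_exp h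
  have h5 := fin_spor x hx p hpl (x.2.factorization p) (by rw [List.mem_range'_1]; omega) hd1 hd2 _
    (mem_ents h (by rw [hP]; exact hexp)) (clB_of hX)
  apply h5
  show ((p ^ f) ^ NN X * num X (p ^ f)) % x.2 = 0
  rw [← h.eq, mul_comm]
  exact Nat.mod_eq_zero_of_dvd hd

end Cfsg.Agent.H358.DM
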